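import Groth.Agent.Goren.Basic

/-!
# Rees' change of rings: `Ext^i_{A/f}(M, A/f) = 0 ↔ Ext^{i+1}_A(M, A) = 0` for `i ≥ 1`
-/

set_option autoImplicit false

universe u

open CategoryTheory Abelian IsLocalRing RingTheory.Sequence
open scoped Pointwise

noncomputable section

namespace Groth.Agent.Goren

variable {A : Type u} [CommRing A] (f : A)

abbrev mulSeq : ShortComplex (ModuleCat.{u} A) :=
  ShortComplex.mk (f • 𝟙 (ModuleCat.of A A)) (ModuleCat.ofHom (Submodule.mkQ (Ideal.span {f})))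
    (ModuleCat.hom_ext (LinearMap.ext fun z => (Submodule.Quotient.mk_eq_zero _).2
      (Ideal.mul_mem_right _ _ (Ideal.mem_span_singleton_self f))))

lemma mulSeq_shortExact (hf : IsSMulRegular A f) : (mulSeq f).ShortExact := by
  refine { exact := ?_, mono_f := (ModuleCat.mono_iff_injective _).2 hf,
           epi_g := (ModuleCat.epi_iff_surjective _).2 (Submodule.mkQ_surjective _) }
  rw [ShortComplex.moduleCat_exact_iff]
  intro (z : A) hz
  obtain ⟨c, hc⟩ := Ideal.mem_span_singleton'.1 ((Submodule.Quotient.mk_eq_zero _).1 hz)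
  refine ⟨c, ?_⟩
  change f * c = z
  rw [mul_comm, hc]

variable {f}

/-- the connecting map `Hom(X, A/f) → Ext^1(X, A)` -/
def delta (hf : IsSMulRegular A f) {X : ModuleCat.{u} A} (φ : X ⟶ ModuleCat.of A (A ⧸ Ideal.span {f})) :
    Ext X (ModuleCat.of A A) 1 :=
  (Ext.mk₀ φ).comp (mulSeq_shortExact f hf).extClass (zero_add 1)

lemma delta_comp (hf : IsSMulRegular A f) {X Y : ModuleCat.{u} A} (g : Y ⟶ X)
    (φ : X ⟶ ModuleCat.of A (A ⧸ Ideal.span {f})) :
    (Ext.mk₀ g).comp (delta hf φ) (zero_add 1) = delta hf (g ≫ φ) := by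
  rw [delta, delta, ← Ext.mk₀_comp_mk₀,
    Ext.comp_assoc (Ext.mk₀ g) (Ext.mk₀ φ) (mulSeq_shortExact f hf).extClass (zero_add 0) (zero_add 1) (by omega)]

lemma delta_surjective (hf : IsSMulRegular A f) (X : Type u) [AddCommGroup X] [Module A X] (hX : ∀ x : X, f • x = 0)
    (ξ : Ext (ModuleCat.of A X) (ModuleCat.of A A) 1) : ∃ φ, delta hf φ = ξ := by
  obtain ⟨η, hη⟩ := Ext.covariant_sequence_exact₁ (ModuleCat.of A X) (mulSeq_shortExact f hf) ξ (by
    have h : ξ.comp (Ext.mk₀ (f • 𝟙 (ModuleCat.of A A))) (add_zero 1) = f • ξ := by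
      rw [Ext.mk₀_smul, Ext.comp_smul, Ext.comp_mk₀_id]
    exact h.trans (kills_of_killed hX 1 ξ)) rfl
  obtain ⟨φ, rfl⟩ := (Ext.mk₀_bijective _ _).2 η
  exact ⟨φ, hη⟩

lemma delta_injective (hf : IsSMulRegular A f) (X : Type u) [AddCommGroup X] [Module A X] (hX : ∀ x : X, f • x = 0)
    {φ ψ : ModuleCat.of A X ⟶ ModuleCat.of A (A ⧸ Ideal.span {f})} (h : delta hf φ = delta hf ψ) : φ = ψ := by
  have h0 : (Ext.mk₀ (φ - ψ)).comp (mulSeq_shortExact f hf).extClass (zero_add 1) = 0 := by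
    have e : delta hf (φ - ψ) + delta hf ψ = delta hf φ := by
      rw [delta, delta, delta, ← Ext.add_comp, ← Ext.mk₀_add, sub_add_cancel]
    rw [h] at e
    exact add_eq_right.1 e
  obtain ⟨η, hη⟩ := Ext.covariant_sequence_exact₃ (ModuleCat.of A X) (mulSeq_shortExact f hf) _ rfl h0
  obtain ⟨g, rfl⟩ := (Ext.mk₀_bijective _ _).2 η
  have hg : g = 0 := ModuleCat.hom_ext (LinearMap.ext fun x => hf (by
    change f • (g.hom x : A) = f • (0 : A)
    rw [smul_zero, ← map_smul g.hom, hX, map_zero]))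
  rw [hg, Ext.mk₀_zero, Ext.zero_comp, eq_comm] at hη
  exact sub_eq_zero.1 ((Ext.mk₀_bijective _ _).1 (hη.trans (Ext.mk₀_zero _ _).symm))

lemma smul_eq_zero_of_tower {B X : Type u} [CommRing B] [Algebra A B] [AddCommGroup X] [Module A X] [Module B X]
    [IsScalarTower A B X] (hB : algebraMap A B f = 0) (x : X) : f • x = 0 := by
  rw [← algebraMap_smul B f x, hB, zero_smul]

variable [IsNoetherianRing A]

lemma kills_free (hf : IsSMulRegular A f) (k : ℕ) (i : ℕ) :
    Kills (1 : A) (Fin k → A ⧸ Ideal.span {f}) A (i + 2) := by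
  let g : (Fin k → A) →ₗ[A] Fin k → A ⧸ Ideal.span {f} :=
    LinearMap.pi fun j => (Submodule.mkQ (Ideal.span {f})) ∘ₗ LinearMap.proj j
  have hg : Function.Surjective g := fun v => ⟨fun j => (Submodule.Quotient.mk_surjective _ (v j)).choose,
    funext fun j => (Submodule.Quotient.mk_surjective _ (v j)).choose_spec⟩
  have hp : ∀ j : ℕ, Kills (1 : A) (Fin k → A) A (j + 1) := fun j ξ => by
    rw [one_smul]; exact Ext.eq_zero_of_projective ξ
  refine sub_right (f • (LinearMap.id : (Fin k → A) →ₗ[A] _)) g (fun a b h => (IsSMulRegular.pi fun _ : Fin k => hf) h) hg (fun v => ?_) (hp (i + 1)) (hp i)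
  constructor
  · intro hv
    choose c hc using fun j => Ideal.mem_span_singleton'.1 ((Submodule.Quotient.mk_eq_zero _).1 (congrFun hv j))
    exact ⟨c, funext fun j => (mul_comm f (c j)).trans (hc j)⟩
  · rintro ⟨c, rfl⟩
    exact funext fun j => (Submodule.Quotient.mk_eq_zero _).2 (Ideal.mul_mem_right _ _ (Ideal.mem_span_singleton_self f))

theorem ext_quotient_iff (hf : IsSMulRegular A f) (i : ℕ) : ∀ (M : Type u) [AddCommGroup M] [Module A M]
    [Module (A ⧸ Ideal.span {f}) M] [IsScalarTower A (A ⧸ Ideal.span {f}) M] [Module.Finite A M],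
    (Kills (1 : A ⧸ Ideal.span {f}) M (A ⧸ Ideal.span {f}) (i + 1) ↔ Kills (1 : A) M A (i + 2)) := by
  induction i with
  | zero =>
    intro M _ _ _ _ _
    haveI : Module.Finite (A ⧸ Ideal.span {f}) M := Module.Finite.of_restrictScalars_finite A _ _
    obtain ⟨k, g, hg⟩ := Module.Finite.exists_fin' (A ⧸ Ideal.span {f}) M
    have hB : algebraMap A (A ⧸ Ideal.span {f}) f = 0 :=
      Ideal.Quotient.eq_zero_iff_mem.2 (Ideal.mem_span_singleton_self f)
    have hsurj : Function.Surjective (algebraMap A (A ⧸ Ideal.span {f})) := Ideal.Quotient.mk_surjective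
    let K := LinearMap.ker g
    let ι : K →ₗ[A ⧸ Ideal.span {f}] Fin k → A ⧸ Ideal.span {f} := K.subtype
    have hex : Function.Exact ι g := LinearMap.exact_iff.2 (Submodule.range_subtype _).symm
    have hSB := ses_shortExact ι g Subtype.val_injective hg hex
    have hSA := ses_shortExact (ι.restrictScalars A) (g.restrictScalars A) Subtype.val_injective hg hex
    have h1 : Kills (1 : A ⧸ Ideal.span {f}) M (A ⧸ Ideal.span {f}) 1 ↔
        ∀ ψ : K →ₗ[A ⧸ Ideal.span {f}] A ⧸ Ideal.span {f}, ∃ Φ : (Fin k → A ⧸ Ideal.span {f}) →ₗ[A ⧸ Ideal.span {f}] A ⧸ Ideal.span {f}, Φ ∘ₗ ι = ψ := by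
      constructor
      · intro h ψ
        haveI := kills_one_iff.1 h
        obtain ⟨η, hη⟩ := Ext.contravariant_sequence_exact₁ hSB (ModuleCat.of _ (A ⧸ Ideal.span {f}))
          (Ext.mk₀ (ModuleCat.ofHom ψ)) (add_zero 1)
          (Subsingleton.elim (α := Ext (ModuleCat.of (A ⧸ Ideal.span {f}) M) (ModuleCat.of _ (A ⧸ Ideal.span {f})) 1) _ _)
        obtain ⟨Φ, rfl⟩ := (Ext.mk₀_bijective _ _).2 η
        rw [Ext.mk₀_comp_mk₀] at hη
        exact ⟨Φ.hom, congrArg ModuleCat.Hom.hom ((Ext.mk₀_bijective _ _).1 hη)⟩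
      · intro h ξ
        haveI : Module.Projective (A ⧸ Ideal.span {f}) (Fin k → A ⧸ Ideal.span {f}) := inferInstance
        obtain ⟨η, hη⟩ := Ext.contravariant_sequence_exact₃ hSB (ModuleCat.of _ (A ⧸ Ideal.span {f})) ξ
          (Ext.eq_zero_of_projective (P := ModuleCat.of (A ⧸ Ideal.span {f}) (Fin k → A ⧸ Ideal.span {f})) (n := 0) _)
          (add_zero 1)
        obtain ⟨ψ, rfl⟩ := (Ext.mk₀_bijective _ _).2 η
        obtain ⟨Φ, hΦ⟩ := h ψ.hom
        rw [one_smul, ← hη, show ψ = (ses ι g hex).f ≫ ModuleCat.ofHom Φ from ModuleCat.hom_ext hΦ.symm,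
          ← Ext.mk₀_comp_mk₀, ← Ext.comp_assoc hSB.extClass (Ext.mk₀ _) (Ext.mk₀ _) (add_zero 1) (add_zero 0) (by omega),
          hSB.extClass_comp, Ext.zero_comp]
    have h2 : Kills (1 : A) M A 2 ↔ ∀ ψ : K →ₗ[A] A ⧸ Ideal.span {f},
        ∃ Φ : (Fin k → A ⧸ Ideal.span {f}) →ₗ[A] A ⧸ Ideal.span {f}, Φ ∘ₗ ι.restrictScalars A = ψ := by
      constructor
      · intro h ψ
        haveI := kills_one_iff.1 h
        obtain ⟨η, hη⟩ := Ext.contravariant_sequence_exact₁ hSA (ModuleCat.of A A)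
          (delta hf (ModuleCat.ofHom ψ)) (by omega : 1 + 1 = 2)
          (Subsingleton.elim (α := Ext (ModuleCat.of A M) (ModuleCat.of A A) 2) _ _)
        obtain ⟨Φ, rfl⟩ := delta_surjective hf (Fin k → A ⧸ Ideal.span {f}) (smul_eq_zero_of_tower hB) η
        rw [delta_comp] at hη
        exact ⟨Φ.hom, congrArg ModuleCat.Hom.hom (delta_injective hf K (smul_eq_zero_of_tower hB) hη)⟩
      · intro h ξ
        obtain ⟨η, hη⟩ := Ext.contravariant_sequence_exact₃ hSA (ModuleCat.of A A) ξ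
          ((one_smul A _).symm.trans (kills_free hf k 0 _)) (by omega : 1 + 1 = 2)
        obtain ⟨ψ, rfl⟩ := delta_surjective hf K (smul_eq_zero_of_tower hB) η
        obtain ⟨Φ, hΦ⟩ := h ψ.hom
        rw [one_smul, ← hη, show ψ = (ses (ι.restrictScalars A) (g.restrictScalars A) hex).f ≫ ModuleCat.ofHom Φ from ModuleCat.hom_ext hΦ.symm,
          ← delta_comp, ← Ext.comp_assoc hSA.extClass (Ext.mk₀ _) (delta hf _) (add_zero 1) (zero_add 1) (by omega),
          hSA.extClass_comp, Ext.zero_comp]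
    rw [h1, h2]
    constructor
    · intro h ψ
      obtain ⟨Φ, hΦ⟩ := h (ψ.extendScalarsOfSurjective hsurj)
      exact ⟨Φ.restrictScalars A, LinearMap.ext fun x => LinearMap.congr_fun hΦ x⟩
    · intro h ψ
      obtain ⟨Φ, hΦ⟩ := h (ψ.restrictScalars A)
      exact ⟨Φ.extendScalarsOfSurjective hsurj, LinearMap.ext fun x => LinearMap.congr_fun hΦ x⟩
  | succ i ih =>
    intro M _ _ _ _ _
    haveI : Module.Finite (A ⧸ Ideal.span {f}) M := Module.Finite.of_restrictScalars_finite A _ _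
    obtain ⟨k, g, hg⟩ := Module.Finite.exists_fin' (A ⧸ Ideal.span {f}) M
    haveI : IsNoetherian A (Fin k → A ⧸ Ideal.span {f}) := inferInstance
    haveI : Module.Finite A (LinearMap.ker g) :=
      Module.Finite.of_injective ((LinearMap.ker g).subtype.restrictScalars A) Subtype.val_injective
    have hex : Function.Exact (LinearMap.ker g).subtype g := LinearMap.exact_iff.2 (Submodule.range_subtype _).symm
    have hB : ∀ j : ℕ, Kills (1 : A ⧸ Ideal.span {f}) (Fin k → A ⧸ Ideal.span {f}) (A ⧸ Ideal.span {f}) (j + 1) :=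
      fun j ξ => by rw [one_smul]; exact Ext.eq_zero_of_projective ξ
    have eB : Kills (1 : A ⧸ Ideal.span {f}) M (A ⧸ Ideal.span {f}) (i + 2) ↔
        Kills (1 : A ⧸ Ideal.span {f}) (LinearMap.ker g) (A ⧸ Ideal.span {f}) (i + 1) :=
      ⟨sub_left _ g Subtype.val_injective hg hex (hB i),
        sub_right (LinearMap.ker g).subtype g Subtype.val_injective hg hex (hB (i + 1))⟩
    have eA : Kills (1 : A) M A (i + 3) ↔ Kills (1 : A) (LinearMap.ker g) A (i + 2) :=
      ⟨sub_left ((LinearMap.ker g).subtype.restrictScalars A) (g.restrictScalars A) Subtype.val_injective hg hex (kills_free hf k i),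
        sub_right ((LinearMap.ker g).subtype.restrictScalars A) (g.restrictScalars A) Subtype.val_injective hg hex (kills_free hf k (i + 1))⟩
    exact eB.trans ((ih (LinearMap.ker g)).trans eA.symm)

end Groth.Agent.Goren
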