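import Groth.Agent.Goren.Basic
import Groth.Agent.IdealDepth.Serre
import Mathlib.RingTheory.LocalProperties.InjectiveDimension
import Mathlib.RingTheory.Ideal.Height

/-!
# Finite injective dimension and localization
-/

set_option autoImplicit false

universe u

open CategoryTheory

noncomputable section

namespace Groth.Agent.Goren

variable {A : Type u} [CommRing A]

def localizedSelfIso (p : Ideal A) [p.IsPrime] :
    (ModuleCat.of A A).localizedModule p.primeCompl ≅
      ModuleCat.of (Localization.AtPrime p) (Localization.AtPrime p) :=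
  ((Shrink.linearEquiv (Localization.AtPrime p) (LocalizedModule p.primeCompl A)).trans
    (IdealDepth.Serre.selfEquiv A p)).toModuleIso

theorem injLT_localization [IsNoetherianRing A] (p : Ideal A) [p.IsPrime] (n : ℕ)
    [HasInjectiveDimensionLE (ModuleCat.of A A) n] :
    HasInjectiveDimensionLE (ModuleCat.of (Localization.AtPrime p) (Localization.AtPrime p)) n := by
  haveI := (ModuleCat.of A A).localizedModule_hasInjectiveDimensionLE n p.primeCompl
  exact hasInjectiveDimensionLT_of_iso (localizedSelfIso p) (n + 1)

theorem injLE_of_localization [IsNoetherianRing A] (n : ℕ)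
    (h : ∀ m : MaximalSpectrum A, HasInjectiveDimensionLE
      (ModuleCat.of (Localization.AtPrime m.1) (Localization.AtPrime m.1)) n) :
    HasInjectiveDimensionLE (ModuleCat.of A A) n := by
  refine ((ModuleCat.of A A).hasInjectiveDimensionLE_iff_forall_maximalSpectrum n).2 fun m => ?_
  haveI := h m
  exact hasInjectiveDimensionLT_of_iso (localizedSelfIso m.1).symm (n + 1)

theorem isGorensteinLocalRing_localization [IsNoetherianRing A] (p : Ideal A) [p.IsPrime] (n : ℕ)
    [HasInjectiveDimensionLT (ModuleCat.of A A) n] :
    LocCoh.IsGorensteinLocalRing (Localization.AtPrime p) := by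
  haveI : HasInjectiveDimensionLE (ModuleCat.of A A) n := hasInjectiveDimensionLT_of_ge _ n (n + 1) (by omega)
  exact { exists_hasInjectiveDimensionLT := ⟨n + 1, injLT_localization p n⟩ }

theorem finite_injDim_iff [IsNoetherianRing A] :
    (∃ n : ℕ, HasInjectiveDimensionLT (ModuleCat.of A A) n) ↔
      (LocCoh.IsGorensteinRing A ∧ ringKrullDim A < ⊤) := by
  constructor
  · rintro ⟨n, hn⟩
    refine ⟨{ isGorensteinLocalRing_localization := fun p _ => isGorensteinLocalRing_localization p n }, ?_⟩
    refine lt_of_le_of_lt ((ringKrullDim_le_iff_height_le ((n : ℕ∞) : WithBot ℕ∞)).2 fun p hp => ?_)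
      (WithBot.coe_lt_coe.2 (ENat.natCast_lt_top n))
    haveI := hp
    haveI : HasInjectiveDimensionLE (ModuleCat.of A A) n := hasInjectiveDimensionLT_of_ge _ n (n + 1) (by omega)
    haveI : HasInjectiveDimensionLT (ModuleCat.of (Localization.AtPrime p) (Localization.AtPrime p)) (n + 1) :=
      injLT_localization p n
    have h := dim_le (R := Localization.AtPrime p) (n := n + 1) fun i hi =>
      fun ξ => by rw [one_smul]; exact Abelian.Ext.eq_zero_of_hasInjectiveDimensionLT ξ (n + 1) hi
    rw [IsLocalization.AtPrime.ringKrullDim_eq_height p (Localization.AtPrime p)] at h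
    refine WithBot.coe_le_coe.2 (Order.le_of_lt_add_one ?_)
    have h' : p.height < ((n + 1 : ℕ) : ℕ∞) := WithBot.coe_lt_coe.1 h
    exact_mod_cast h'
  · rintro ⟨hG, hd⟩
    cases subsingleton_or_nontrivial A with
    | inl hA =>
      exact ⟨0, @CategoryTheory.Limits.IsZero.hasInjectiveDimensionLT_zero _ _ _ _
        (ModuleCat.isZero_of_subsingleton _)⟩
    | inr hA =>
      obtain ⟨d, hd'⟩ : ∃ d : ℕ, ringKrullDim A ≤ ((d : ℕ∞) : WithBot ℕ∞) := by
        revert hd
        generalize ringKrullDim A = e
        cases e with
        | bot => exact fun _ => ⟨0, bot_le⟩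
        | coe e =>
          cases e with
          | top => exact fun h => absurd h (lt_irrefl _)
          | coe d => exact fun _ => ⟨d, le_rfl⟩
      refine ⟨d + 1, injLE_of_localization d fun m => ?_⟩
      haveI := hG.isGorensteinLocalRing_localization m.1
      obtain ⟨n, hn⟩ := LocCoh.IsGorensteinLocalRing.exists_hasInjectiveDimensionLT (A := Localization.AtPrime m.1)
      haveI := hn
      have hle : m.1.height ≤ (d : ℕ∞) :=
        WithBot.coe_le_coe.1 ((Ideal.height_le_ringKrullDim_of_ne_top m.2.ne_top).trans hd')
      obtain ⟨e, he⟩ := ENat.ne_top_iff_exists.1 (ne_top_of_le_ne_top (ENat.natCast_ne_top d) hle)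
      haveI := injLT_dim (R := Localization.AtPrime m.1) (n := n) (d := e) (by
        rw [IsLocalization.AtPrime.ringKrullDim_eq_height m.1, ← he]; rfl)
      rw [← he, Nat.cast_le] at hle
      exact hasInjectiveDimensionLT_of_ge _ (e + 1) (d + 1) (by omega)

end Groth.Agent.Goren
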