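import Groth.Agent.RegularLocal.GlobalDim
import Mathlib.Algebra.Category.ModuleCat.Ext.Finite
import Mathlib.CategoryTheory.Abelian.Injective.Dimension
import Mathlib.Algebra.Category.ModuleCat.EnoughInjectives
import Mathlib.LinearAlgebra.Matrix.Charpoly.LinearMap
import Mathlib.RingTheory.Ideal.AssociatedPrime.Finiteness
import Mathlib.RingTheory.Support
import Mathlib.RingTheory.LocalRing.ResidueField.Basic

/-!
# Elementary propagation of vanishing of `Ext(R/p, N)`

* `Kills`, `V`: annihilation and vanishing of `Ext^i(L, N)`;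
* reduction to the modules `R/p`, descending from the closed point;
* `injLT_of_residue`: injective dimension of a finite module over a local ring from `Ext(k, N)`;
* `nonkill_step`: the Bass step `μ_i(p) ≠ 0 → μ_{i+1}(q) ≠ 0` for adjacent `p < q`, without localizing.
-/

set_option autoImplicit false

universe u

open CategoryTheory Abelian IsLocalRing
open scoped Pointwise

noncomputable section

namespace Groth.Agent.Goren

variable {R : Type u} [CommRing R]

/-- `r` annihilates `Ext^i(L, N)` -/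
def Kills (r : R) (L N : Type u) [AddCommGroup L] [Module R L] [AddCommGroup N] [Module R N] (i : ℕ) : Prop :=
  ∀ ξ : Ext (ModuleCat.of R L) (ModuleCat.of R N) i, r • ξ = 0

variable {L L' L'' N : Type u} [AddCommGroup L] [Module R L] [AddCommGroup L'] [Module R L'] [AddCommGroup L'']
  [Module R L''] [AddCommGroup N] [Module R N]

lemma kills_one_iff {i : ℕ} : Kills (1 : R) L N i ↔ Subsingleton (Ext (ModuleCat.of R L) (ModuleCat.of R N) i) :=
  ⟨fun h => ⟨fun a b => by rw [← one_smul R a, ← one_smul R b, h a, h b]⟩, fun _ _ => Subsingleton.elim _ _⟩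

lemma Kills.mul_left {r : R} {i : ℕ} (h : Kills r L N i) (s : R) : Kills (s * r) L N i := fun ξ => by
  rw [mul_smul, h, smul_zero]

lemma kills_of_killed {r : R} (hr : ∀ l : L, r • l = 0) (i : ℕ) : Kills r L N i := fun ξ => by
  have h2 : (Ext.mk₀ (r • 𝟙 (ModuleCat.of R L))).comp ξ (zero_add i) = r • ξ := by
    rw [Ext.mk₀_smul, Ext.smul_comp, Ext.mk₀_id_comp]
  rw [← h2, show r • 𝟙 (ModuleCat.of R L) = 0 by ext l; exact hr l, Ext.mk₀_zero, Ext.zero_comp]

lemma kills_congr (e : L ≃ₗ[R] L') {r : R} {i : ℕ} (h : Kills r L N i) : Kills r L' N i := fun ξ => by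
  have : (Ext.mk₀ e.toModuleIso.inv).comp ((Ext.mk₀ e.toModuleIso.hom).comp ξ (zero_add i)) (zero_add i) = ξ := by
    rw [← Ext.comp_assoc (Ext.mk₀ _) (Ext.mk₀ _) ξ (zero_add 0) (zero_add i) (by omega), Ext.mk₀_comp_mk₀,
      Iso.inv_hom_id, Ext.mk₀_id_comp]
  rw [← this, ← Ext.comp_smul, h, Ext.comp_zero]

/-- a short exact sequence of modules -/
abbrev ses (f : L →ₗ[R] L') (g : L' →ₗ[R] L'') (hfg : Function.Exact f g) : ShortComplex (ModuleCat.{u} R) :=
  ShortComplex.mk (ModuleCat.ofHom f) (ModuleCat.ofHom g)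
    (ModuleCat.hom_ext (LinearMap.ext fun z => hfg.apply_apply_eq_zero z))

lemma ses_shortExact (f : L →ₗ[R] L') (g : L' →ₗ[R] L'') (hf : Function.Injective f) (hg : Function.Surjective g)
    (hfg : Function.Exact f g) : (ses f g hfg).ShortExact :=
  { exact := (ShortComplex.ShortExact.moduleCat_exact_iff_function_exact (ses f g hfg)).2 hfg
    mono_f := (ModuleCat.mono_iff_injective _).2 hf
    epi_g := (ModuleCat.epi_iff_surjective _).2 hg }

lemma kills_mid (f : L →ₗ[R] L') (g : L' →ₗ[R] L'') (hf : Function.Injective f) (hg : Function.Surjective g)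
    (hfg : Function.Exact f g) {i : ℕ} {s t : R} (h : Kills s L N i) (h'' : Kills t L'' N i) :
    Kills (t * s) L' N i := fun ξ => by
  obtain ⟨η, hη⟩ := Ext.contravariant_sequence_exact₂ (ses_shortExact f g hf hg hfg) (ModuleCat.of R N) (s • ξ)
    (by rw [Ext.comp_smul]; exact h _)
  rw [mul_smul, ← hη, ← Ext.comp_smul]
  change (Ext.mk₀ (ses f g hfg).g).comp (t • η) _ = 0
  rw [show t • η = 0 from h'' η, Ext.comp_zero]

lemma sub_left (f : L →ₗ[R] L') (g : L' →ₗ[R] L'') (hf : Function.Injective f) (hg : Function.Surjective g)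
    (hfg : Function.Exact f g) {i : ℕ} (h' : Kills (1 : R) L' N i) (h'' : Kills (1 : R) L'' N (i + 1)) :
    Kills (1 : R) L N i := fun ξ => by
  haveI := kills_one_iff.1 h''
  haveI := kills_one_iff.1 h'
  obtain ⟨η, hη⟩ := Ext.contravariant_sequence_exact₁ (ses_shortExact f g hf hg hfg) (ModuleCat.of R N) ξ
    (by omega : 1 + i = i + 1) (Subsingleton.elim _ _)
  rw [one_smul, ← hη, show η = 0 from Subsingleton.elim (α := Ext (ModuleCat.of R L') (ModuleCat.of R N) i) η 0,
    Ext.comp_zero]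

lemma sub_right (f : L →ₗ[R] L') (g : L' →ₗ[R] L'') (hf : Function.Injective f) (hg : Function.Surjective g)
    (hfg : Function.Exact f g) {i : ℕ} (h' : Kills (1 : R) L' N (i + 1)) (h : Kills (1 : R) L N i) :
    Kills (1 : R) L'' N (i + 1) := fun ξ => by
  haveI := kills_one_iff.1 h
  haveI := kills_one_iff.1 h'
  obtain ⟨η, hη⟩ := Ext.contravariant_sequence_exact₃ (ses_shortExact f g hf hg hfg) (ModuleCat.of R N) ξ
    (Subsingleton.elim _ _) (by omega : 1 + i = i + 1)
  rw [one_smul, ← hη, show η = 0 from Subsingleton.elim (α := Ext (ModuleCat.of R L) (ModuleCat.of R N) i) η 0,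
    Ext.comp_zero]

section Filtration

variable [IsNoetherianRing R]

/-- from the modules `R/p` to all finite modules; `T` is a multiplicative set of possible annihilators -/
theorem kills_of_primes (T : Submonoid R) (i : ℕ) (M : Type u) [AddCommGroup M] [Module R M] [hM : Module.Finite R M]
    (h : ∀ p ∈ Module.support R M, ∃ t ∈ T, Kills t (R ⧸ (p : PrimeSpectrum R).asIdeal) N i) :
    ∃ t ∈ T, Kills t M N i := by
  revert h
  induction hM using IsNoetherianRing.induction_on_isQuotientEquivQuotientPrime with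
  | subsingleton P => exact fun _ => ⟨1, T.one_mem, kills_of_killed (fun l => Subsingleton.elim _ _) i⟩
  | quotient P p e =>
    intro h
    obtain ⟨t, ht, hk⟩ := h p (by
      rw [LinearEquiv.support_eq e, Module.support_eq_zeroLocus, Ideal.annihilator_quotient]
      exact le_refl p.asIdeal)
    exact ⟨t, ht, kills_congr e.symm hk⟩
  | exact N₁ N₂ N₃ f g hf hg hfg ih1 ih3 =>
    intro h
    obtain ⟨s, hs, hs'⟩ := ih1 fun p hp => h p (Module.support_subset_of_injective f hf hp)
    obtain ⟨t, ht, ht'⟩ := ih3 fun p hp => h p (Module.support_subset_of_surjective g hg hp)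
    exact ⟨t * s, T.mul_mem ht hs, kills_mid f g hf hg hfg hs' ht'⟩

theorem vanish_of_primes (i : ℕ) (M : Type u) [AddCommGroup M] [Module R M] [Module.Finite R M]
    (h : ∀ p ∈ Module.support R M, Kills (1 : R) (R ⧸ (p : PrimeSpectrum R).asIdeal) N i) : Kills (1 : R) M N i := by
  obtain ⟨t, ht, hk⟩ := kills_of_primes ⊥ i M fun p hp => ⟨1, Submonoid.one_mem _, h p hp⟩
  rwa [Submonoid.mem_bot.1 ht] at hk

/-- injective dimension is tested on the `R/p` -/
theorem injLT_of_primes (n : ℕ) (h : ∀ p : PrimeSpectrum R, Kills (1 : R) (R ⧸ p.asIdeal) N (n + 1)) :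
    HasInjectiveDimensionLT (ModuleCat.of R N) (n + 1) := by
  refine hasInjectiveDimensionLT_of_enoughProjectives _ _ fun Y => ?_
  exact RegularLocal.GlobalDim.subsingleton_ext_of_finite n _
    (fun L _ _ _ => kills_one_iff.1 (vanish_of_primes _ L fun p _ => h p)) Y

/-- multiplication by `x` on `R/p` -/
lemma exists_smul_eq {p : PrimeSpectrum R} {x t : R} (hx : x ∉ p.asIdeal) {i : ℕ}
    (h : Kills t (R ⧸ (p.asIdeal ⊔ Ideal.span {x})) N (i + 1)) :
    ∀ ξ : Ext (ModuleCat.of R (R ⧸ p.asIdeal)) (ModuleCat.of R N) i, ∃ η, x • η = t • ξ := by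
  intro ξ
  let f : (R ⧸ p.asIdeal) →ₗ[R] R ⧸ p.asIdeal := x • LinearMap.id
  let g : (R ⧸ p.asIdeal) →ₗ[R] R ⧸ (p.asIdeal ⊔ Ideal.span {x}) := Submodule.factor (le_sup_left : p.asIdeal ≤ p.asIdeal ⊔ Ideal.span {x})
  have hf : Function.Injective f := by
    refine (injective_iff_map_eq_zero f).2 fun a ha => ?_
    obtain ⟨a, rfl⟩ := Submodule.Quotient.mk_surjective _ a
    change (x • Submodule.Quotient.mk a : R ⧸ p.asIdeal) = 0 at ha
    rw [← Submodule.Quotient.mk_smul, Submodule.Quotient.mk_eq_zero, smul_eq_mul] at ha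
    exact (Submodule.Quotient.mk_eq_zero _).2 ((p.isPrime.mem_or_mem ha).resolve_left hx)
  have hg : Function.Surjective g := Submodule.factor_surjective le_sup_left
  have hfg : Function.Exact f g := by
    intro a
    obtain ⟨a, rfl⟩ := Submodule.Quotient.mk_surjective _ a
    constructor
    · intro ha
      change Submodule.Quotient.mk a = 0 at ha
      rw [Submodule.Quotient.mk_eq_zero, Submodule.mem_sup] at ha
      obtain ⟨j, hj, z, hz, rfl⟩ := ha
      obtain ⟨c, rfl⟩ := Ideal.mem_span_singleton'.1 hz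
      refine ⟨Submodule.Quotient.mk c, ?_⟩
      change (x • Submodule.Quotient.mk c : R ⧸ p.asIdeal) = _
      rw [← Submodule.Quotient.mk_smul, Submodule.Quotient.eq, smul_eq_mul,
        show x * c - (j + c * x) = -j by ring]
      exact p.asIdeal.neg_mem hj
    · rintro ⟨c, hc⟩
      rw [← hc]
      obtain ⟨c, rfl⟩ := Submodule.Quotient.mk_surjective _ c
      change g (x • Submodule.Quotient.mk c) = 0
      rw [← Submodule.Quotient.mk_smul]
      exact (Submodule.Quotient.mk_eq_zero _).2 (Submodule.mem_sup_right (Ideal.mul_mem_right _ _ (Ideal.mem_span_singleton_self x)))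
  have hS := ses_shortExact f g hf hg hfg
  obtain ⟨η, hη⟩ := Ext.contravariant_sequence_exact₁ hS (ModuleCat.of R N) (t • ξ) (by omega : 1 + i = i + 1)
    (by rw [Ext.comp_smul]; exact h _)
  refine ⟨η, ?_⟩
  rw [← hη]
  change _ = (Ext.mk₀ (x • 𝟙 (ModuleCat.of R (R ⧸ p.asIdeal)))).comp η (zero_add i)
  rw [Ext.mk₀_smul, Ext.smul_comp, Ext.mk₀_id_comp]

end Filtration

/-- determinant trick -/
lemma exists_kills {E : Type u} [AddCommGroup E] [Module R E] [Module.Finite R E] {x t : R}
    (h : ∀ ξ : E, ∃ η, x • η = t • ξ) : ∃ (k : ℕ) (a : R), ∀ ξ : E, (t ^ k + x * a) • ξ = 0 := by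
  obtain ⟨q, hq, -, hc, ha⟩ := LinearMap.exists_monic_and_natDegree_eq_and_coeff_mem_pow_and_aeval_eq_zero
    (R := R) (algebraMap R (Module.End R E) t) (I := Ideal.span {x}) (by
      rintro _ ⟨ξ, rfl⟩
      obtain ⟨η, hη⟩ := h ξ
      change t • ξ ∈ _
      rw [← hη]
      exact Submodule.smul_mem_smul (Ideal.mem_span_singleton_self x) trivial)
  rw [Polynomial.aeval_algebraMap_apply] at ha
  have hmem : q.eval t - t ^ q.natDegree ∈ Ideal.span {x} := by
    rw [Polynomial.eval_eq_sum_range, Finset.sum_range_succ, hq.coeff_natDegree, one_mul, add_sub_cancel_right]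
    refine Ideal.sum_mem _ fun k hk => Ideal.mul_mem_right _ _ ?_
    exact Ideal.pow_le_self (by have := Finset.mem_range.1 hk; omega) (hc k)
  obtain ⟨a, ha'⟩ := Ideal.mem_span_singleton'.1 hmem
  refine ⟨q.natDegree, a, fun ξ => ?_⟩
  rw [show t ^ q.natDegree + x * a = q.eval t by rw [mul_comm x a, ha']; ring]
  have := LinearMap.congr_fun ha ξ
  rw [Polynomial.coe_aeval_eq_eval, Module.algebraMap_end_apply] at this
  exact this

variable [IsNoetherianRing R] [Module.Finite R N]

theorem kills_primes_of_residue [IsLocalRing R] (n : ℕ) (h : ∀ i, n ≤ i → Kills (1 : R) (R ⧸ maximalIdeal R) N i)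
    (p : PrimeSpectrum R) : ∀ i, n ≤ i → Kills (1 : R) (R ⧸ p.asIdeal) N i := by
  haveI : WellFoundedGT (PrimeSpectrum R) := ⟨InvImage.wf PrimeSpectrum.asIdeal wellFounded_gt⟩
  induction p using WellFoundedGT.induction with
  | _ p ih =>
    intro i hi
    by_cases hp : p.asIdeal = maximalIdeal R
    · rw [hp]; exact h i hi
    obtain ⟨x, hxm, hxp⟩ := Set.exists_of_ssubset (lt_of_le_of_ne (le_maximalIdeal p.isPrime.ne_top) hp :)
    have hk : Kills (1 : R) (R ⧸ (p.asIdeal ⊔ Ideal.span {x})) N (i + 1) := by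
      refine vanish_of_primes _ _ fun q hq => ih q ?_ (i + 1) (by omega)
      rw [Module.support_eq_zeroLocus, Ideal.annihilator_quotient, PrimeSpectrum.mem_zeroLocus, SetLike.coe_subset_coe,
        sup_le_iff, Ideal.span_singleton_le_iff_mem] at hq
      exact lt_of_le_of_ne hq.1 fun e => hxp (e ▸ hq.2)
    obtain ⟨k, a, hka⟩ := exists_kills (exists_smul_eq hxp hk)
    intro ξ
    have hu : IsUnit ((1 : R) ^ k + x * a) := by
      by_contra hu
      rw [one_pow] at hu
      refine (maximalIdeal.isMaximal R).ne_top ((Ideal.eq_top_iff_one _).2 ?_)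
      have := (maximalIdeal R).sub_mem ((mem_maximalIdeal _).2 hu) (Ideal.mul_mem_right a _ hxm)
      simpa using this
    rw [one_smul]
    exact hu.smul_eq_zero.1 (hka ξ)

theorem injLT_of_residue [IsLocalRing R] (n : ℕ) (h : ∀ i, n ≤ i → Kills (1 : R) (R ⧸ maximalIdeal R) N i) :
    HasInjectiveDimensionLT (ModuleCat.of R N) (n + 1) :=
  injLT_of_primes n fun p => kills_primes_of_residue n h p (n + 1) (by omega)

/-- no element outside `p` kills `Ext^i(R/p, N)` -/
def NonKill (N : Type u) [AddCommGroup N] [Module R N] (p : PrimeSpectrum R) (i : ℕ) : Prop :=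
  ∀ s ∉ p.asIdeal, ¬ Kills s (R ⧸ p.asIdeal) N i

theorem nonkill_step {p q : PrimeSpectrum R} (hpq : p ⋖ q) {i : ℕ} (h : NonKill N p i) : NonKill N q (i + 1) := by
  intro s hs hk
  obtain ⟨x, hxq, hxp⟩ := Set.exists_of_ssubset (hpq.lt : p.asIdeal < q.asIdeal)
  obtain ⟨t, ht, hkt⟩ := kills_of_primes (N := N) q.asIdeal.primeCompl (i + 1) (R ⧸ (p.asIdeal ⊔ Ideal.span {x})) fun q' hq' => by
    rw [Module.support_eq_zeroLocus, Ideal.annihilator_quotient, PrimeSpectrum.mem_zeroLocus, SetLike.coe_subset_coe,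
      sup_le_iff, Ideal.span_singleton_le_iff_mem] at hq'
    by_cases hqq : q' = q
    · subst hqq; exact ⟨s, hs, hk⟩
    · have : ¬ q'.asIdeal ≤ q.asIdeal := fun hle =>
        hpq.2 (lt_of_le_of_ne hq'.1 fun e => hxp (e ▸ hq'.2)) (lt_of_le_of_ne hle hqq)
      obtain ⟨y, hy, hyq⟩ := SetLike.not_le_iff_exists.1 this
      refine ⟨y, hyq, kills_of_killed (fun l => ?_) _⟩
      obtain ⟨l, rfl⟩ := Submodule.Quotient.mk_surjective _ l
      rw [← Submodule.Quotient.mk_smul, Submodule.Quotient.mk_eq_zero]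
      exact Ideal.mul_mem_right _ _ hy
  obtain ⟨k, a, hka⟩ := exists_kills (exists_smul_eq hxp hkt)
  refine h _ (fun hmem => ?_) hka
  have h1 : t ^ k ∈ q.asIdeal := by
    simpa using q.asIdeal.sub_mem (hpq.le hmem) (Ideal.mul_mem_right a _ hxq)
  exact ht (q.isPrime.mem_of_pow_mem k h1)

end Groth.Agent.Goren
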